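import Cfsg.Agent.Lib.MclMult.Pres
import Cfsg.Agent.Lib.CosetEnum.Stem.Stage
import Cfsg.Agent.Lib.CosetEnum.Stem.Cover
import Cfsg.Agent.Lib.CosetEnum.MclStemC.Checks
import Cfsg.Agent.Lib.CosetEnum.MclStemG.Checks
import Cfsg.Agent.Lib.CosetEnum.MclCover.Valid
import Cfsg.Agent.Lib.FusionSys.McLSimple
import Cfsg.Agent.S0404
import Cfsg.Prelude.Def_KGroupFacts

/-!
# The Schur multiplier of the McLaughlin group is cyclic of order three
-/

set_option autoImplicit false
set_option maxRecDepth 100000

namespace Cfsg.Lib.MclMult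

open Cfsg.Lib.CosetEnum Cfsg.Lib.PermAut

theorem simple_spor : IsSimpleGroup ↥Cfsg.Spor.McL := by
  have h := Cfsg.Agent.S0404.result Cfsg.Spor.leechU Cfsg.Lib.FusionSys.McL.wL
    Cfsg.Lib.Concrete.leechU_norm' Cfsg.Lib.FusionSys.McL.wL_norm Cfsg.Lib.FusionSys.McL.wL_dot
  rw [show Cfsg.Spor.McL = (MulAction.stabilizer Cfsg.Co0 Cfsg.Spor.leechU ⊓
    MulAction.stabilizer Cfsg.Co0 Cfsg.Lib.FusionSys.McL.wL).map Cfsg.Co0.subtype from
    Subgroup.ext Cfsg.Lib.FusionSys.McL.mem_McL_iff]
  exact ((MulAction.stabilizer Cfsg.Co0 Cfsg.Spor.leechU ⊓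
    MulAction.stabilizer Cfsg.Co0 Cfsg.Lib.FusionSys.McL.wL).equivMapOfInjective _
      Cfsg.Co0.subtype_injective).isSimpleGroup_congr.1 h.1

theorem simple_grp : IsSimpleGroup grp := by
  obtain ⟨e⟩ := Mcl.mcl_model.1
  exact e.isSimpleGroup_congr.1 simple_spor

/-- The relators that are unknowns in the first stage. -/
def cunC : List ℕ := [4, 5, 6, 7, 8, 9, 10, 11, 12, 13]

/-- The relators that are unknowns in the second stage. -/
def cunG : List ℕ := [8, 11, 13, 14, 19, 20, 21, 22, 23, 24, 25, 26, 27, 28]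

theorem shapeC : Stem.shapeOK MclStemC.canon.length cunC MclStemC.canonVals = true := by decide +kernel

theorem shapeG : Stem.shapeOK MclStemG.canon.length cunG MclStemG.canonVals = true := by decide +kernel

theorem expoC : Stem.expoOK MclStemC.certA.R MclStemC.certA.RV (MclStemC.certA.eqs.map Prod.snd)
    cunC.length MclStemC.expo MclStemC.expoCombs = true := by decide +kernel

theorem expoG : Stem.expoOK MclStemG.certA.R MclStemG.certA.RV (MclStemG.certA.eqs.map Prod.snd)
    cunG.length MclStemG.expo MclStemG.expoCombs = true := by decide +kernel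

theorem twistC : Stem.twistOK MclStemC.certB.R MclStemC.certB.RV
    (MclStemC.certA.eqs.map Prod.snd ++ MclStemC.certB.eqs.map Prod.snd ++
      Stem.units cunC.length MclStemC.expo) MclStemC.canon MclStemC.canonVals MclStemC.lam MclStemC.omega
    MclStemC.mult MclStemC.twistCombs MclStemC.lamCombs MclStemC.omegaComb = true := by decide +kernel

theorem twistG : Stem.twistOK MclStemG.certB.R MclStemG.certB.RV
    (MclStemG.certA.eqs.map Prod.snd ++ MclStemG.certB.eqs.map Prod.snd ++
      Stem.units cunG.length MclStemG.expo) MclStemG.canon MclStemG.canonVals MclStemG.lam MclStemG.omega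
    MclStemG.mult MclStemG.twistCombs MclStemG.lamCombs MclStemG.omegaComb = true := by decide +kernel

theorem map_word {M G : Type*} [Group M] [Group G] (f : M →* G) {y : ℕ → M} {z : ℕ → G}
    (h : ∀ g, f (y g) = z g) (w : List ℕ) : f (wordVal y w) = wordVal z w := by
  rw [map_wordVal, funext h]

theorem x_zero_ne : x 0 ≠ 1 := by
  intro h
  have hs : sameB Mcl.cert.b Mcl.cert.N [tabOf 0] [] = false := by decide +kernel
  refine Bool.eq_false_iff.1 hs ?_
  rw [sameB_iff]
  intro i hi
  rw [Nat.beq_eq, ← ev_rep (fun T hT => by rw [List.mem_singleton.1 hT]; exact (tab_facts 0).1)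
    (⟨i, hi⟩ : Fin Mcl.cert.N)]
  have h' : Mcl.cert.P (tabOf 0) = 1 := congrArg Subtype.val h
  rw [List.map_singleton, List.prod_singleton]
  show (Mcl.cert.P (tabOf 0) ⟨i, hi⟩ : ℕ) = i
  rw [h']
  rfl

/-- The image of the subgroup on four letters is large. -/
theorem image_card_four : 40320 ≤ Nat.card (Subgroup.closure (x '' {g | g ∈ MclStepC.step.S})) := by
  have hsub : ∀ r ∈ MclStemC.canon, r ∈ MclStemG.canon := by decide +kernel
  obtain ⟨fC, -⟩ := card_four x_mul_self fun r hr => wordVal_x r (hsub r hr)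
  have vG : MclStepG.step.Valid MclStemG.canon := MclStepG.step_valid (by decide +kernel)
  obtain ⟨-, cG⟩ := vG.card_le x_mul_self wordVal_x (K := Subgroup.closure (x '' {g | g ∈ MclStepC.step.S}))
    (inLetters_mem x (S := MclStepC.step.S) (by decide +kernel)) fC le_rfl
  have hS : x '' {g | g ∈ MclStepG.step.S} = x '' {g | g < 5} := by
    rw [show MclStepG.step.S = List.range 5 by decide +kernel]
    simp only [List.mem_range]
  rw [hS, closure_x, Subgroup.card_top, card_grp, show MclStepG.step.n = 22275 by decide +kernel] at cG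
  omega

section Bound

variable {Q : Type} [Group Q] {π : Q →* grp} (hπ : π.ker ≤ Subgroup.center Q)

include hπ in
/-- The lifts can be chosen so that the relators on four letters hold. -/
theorem exists_lifts_four {y : ℕ → Q} (hy : ∀ g, y g * y g = 1) (hxy : ∀ g, π (y g) = x g) :
    ∃ y' : ℕ → Q, (∀ g, y' g * y' g = 1) ∧ (∀ g, π (y' g) = x g) ∧
      ∀ r ∈ MclStemC.canon, wordVal y' r = 1 := by
  have hK : ∀ a ∈ Subgroup.closure ({y 0} : Set Q), π a = 1 → a = 1 := by
    intro a ha h1
    rw [← Subgroup.zpowers_eq_closure] at ha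
    obtain ⟨k, rfl⟩ := Subgroup.mem_zpowers_iff.1 ha
    rcases Int.even_or_odd k with ⟨j, rfl⟩ | ⟨j, rfl⟩
    · rw [zpow_add, ← (Commute.refl (y 0)).mul_zpow, hy, one_zpow]
    · exfalso
      rw [zpow_add, zpow_mul, zpow_two, hy, one_zpow, one_mul, zpow_one, hxy] at h1
      exact x_zero_ne h1
  have hrel : ∀ i < MclStemC.canon.length, π (wordVal y (MclStemC.canon.getD i [])) = 1 := by
    intro i hi
    rw [map_word π hxy, List.getD_eq_getElem _ _ hi]
    exact wordVal_x _ ((show ∀ r ∈ MclStemC.canon, r ∈ MclStemG.canon by decide +kernel) _ (List.getElem_mem hi))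
  have hone : ∀ i < MclStemC.canon.length, cunC.count i = 0 → wordVal y (MclStemC.canon.getD i []) = 1 := by
    intro i hi h0
    obtain ⟨g, hg, e⟩ := (show ∀ i < MclStemC.canon.length, cunC.count i = 0 →
        ∃ g, g < 4 ∧ MclStemC.canon.getD i [] = [g, g] by decide +kernel) i hi h0
    rw [e]
    simp [wordVal, gen, eps, Nat.ne_of_lt (show g < 31 by omega), hy]
  have hU : ∀ r ∈ ([[0]] : List (List ℕ)), wordVal y r ∈ Subgroup.closure ({y 0} : Set Q) := by
    intro r hr
    rw [List.mem_singleton] at hr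
    rw [hr]
    exact Subgroup.subset_closure (by simp [wordVal, gen, eps])
  obtain ⟨y', w, h1, h2, -, -, h3, h4⟩ := Stem.stage hπ hy hK hrel shapeC hone
    MclStemC.validA MclStemC.validB rfl rfl MclStemC.srcA_ok MclStemC.srcB_ok hU hU expoC twistC
  refine ⟨y', h1, fun g => (h2 g).trans (hxy g), fun r hr => ?_⟩
  obtain ⟨i, hi, rfl⟩ := List.getElem_of_mem hr
  have := h4 i hi
  rwa [h3 (by decide +kernel), Subgroup.zpowers_one_eq_bot, Subgroup.mem_bot,
    List.getD_eq_getElem _ _ hi] at this

include hπ in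
/-- The kernel meets the derived subgroup in a group of order at most three. -/
theorem exists_kernel_gen {y : ℕ → Q} (hy : ∀ g, y g * y g = 1) (hxy : ∀ g, π (y g) = x g) :
    ∃ w : Q, w ^ 3 = 1 ∧ π.ker ⊓ commutator Q ≤ Subgroup.zpowers w := by
  obtain ⟨u, hu, hxu, hC⟩ := exists_lifts_four hπ hy hxy
  let K := Subgroup.closure (u '' {g | g ∈ MclStepC.step.S})
  obtain ⟨hfin, hle⟩ := card_four hu hC
  have hK : ∀ a ∈ K, π a = 1 → a = 1 := by
    have hge : 40320 ≤ Nat.card (K.map π) := by
      rw [MonoidHom.map_closure, ← Set.image_comp, show ⇑π ∘ u = x from funext hxu]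
      exact image_card_four
    have hbij := (π.subgroupMap_surjective K).bijective_of_nat_card_le (hle.trans hge)
    intro a ha h1
    have : (⟨a, ha⟩ : K) = 1 := hbij.1 (Subtype.ext (by simpa using h1))
    exact congrArg Subtype.val this
  have hrel : ∀ i < MclStemG.canon.length, π (wordVal u (MclStemG.canon.getD i [])) = 1 := by
    intro i hi
    rw [map_word π hxu, List.getD_eq_getElem _ _ hi]
    exact wordVal_x _ (List.getElem_mem hi)
  have hone : ∀ i < MclStemG.canon.length, cunG.count i = 0 → wordVal u (MclStemG.canon.getD i []) = 1 := by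
    intro i hi h0
    rcases (show ∀ i < MclStemG.canon.length, cunG.count i = 0 →
        MclStemG.canon.getD i [] ∈ MclStemC.canon ∨ MclStemG.canon.getD i [] = [4, 4] by decide +kernel)
      i hi h0 with e | e
    · exact hC _ e
    · rw [e]; simp [wordVal, gen, eps, hu]
  have hU : ∀ r ∈ ([[0], [1], [2], [3]] : List (List ℕ)), wordVal u r ∈ K :=
    inLetters_mem u (by decide +kernel)
  obtain ⟨y', w, h1, h2, hw, hw3, -, h4⟩ := Stem.stage hπ hu hK hrel shapeG hone
    MclStemG.validA MclStemG.validB rfl rfl MclStemG.srcA_ok MclStemG.srcB_ok hU hU expoG twistG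
  refine ⟨w, hw3, Stem.ker_commutator_le_of_pres hπ (R := MclStemG.canon) closure_x h1
    (fun g _ => (h2 g).trans (hxu g)) (fun M _ z hz hr => exists_hom z hz hr)
    (Subgroup.zpowers_le.2 hw) fun r hr => ?_⟩
  obtain ⟨i, hi, rfl⟩ := List.getElem_of_mem hr
  simpa only [List.getD_eq_getElem _ _ hi] using h4 i hi

end Bound

/-- A subgroup embedded in a cyclic group of order dividing `n` is an image of it. -/
theorem exists_surjective_of_zpowers {n : ℕ} {E Q : Type*} [Group E] [Group Q] (H : Subgroup E) (ι : E →* Q)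
    (hι : Function.Injective ι) {g : Q} (hg : g ^ n = 1) (hn : 0 < n)
    (hH : ∀ e ∈ H, ι e ∈ Subgroup.zpowers g) :
    ∃ p : Multiplicative (ZMod n) →* H, Function.Surjective p := by
  have hfin : IsOfFinOrder g := isOfFinOrder_iff_pow_eq_one.2 ⟨n, hn, hg⟩
  have : Finite (Subgroup.zpowers g) :=
    Nat.finite_of_card_ne_zero (by rw [Nat.card_zpowers]; exact hfin.orderOf_pos.ne')
  let f : H →* Subgroup.zpowers g := (ι.comp H.subtype).codRestrict _ fun e => hH e.1 e.2
  have hf : Function.Injective f := fun a b h => Subtype.ext (hι (congrArg Subtype.val h))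
  have hcyc : IsCyclic H := isCyclic_of_injective f hf
  have hdvd : Nat.card H ∣ n :=
    (Subgroup.card_dvd_of_injective f hf).trans (by rw [Nat.card_zpowers]; exact orderOf_dvd_of_pow_eq_one hg)
  let q : ZMod n →+* ZMod (Nat.card H) := ZMod.castHom hdvd _
  refine ⟨(zmodCyclicMulEquiv hcyc).toMonoidHom.comp (AddMonoidHom.toMultiplicative q.toAddMonoidHom),
    (zmodCyclicMulEquiv hcyc).surjective.comp ?_⟩
  intro z
  obtain ⟨v, hv⟩ := ZMod.ringHom_surjective q (Multiplicative.toAdd z)
  exact ⟨Multiplicative.ofAdd v, by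
    show Multiplicative.ofAdd (q v) = z
    rw [hv]; rfl⟩

/-- Every stem extension of the group on 275 points has kernel an image of `ℤ/3`. -/
theorem stem_ker {Γ : Type} [Group Γ] (σ : Γ →* grp) (hσ : Cfsg.IsStemExtension σ) :
    ∃ p : Multiplicative (ZMod 3) →* σ.ker, Function.Surjective p := by
  obtain ⟨hsurj, hker, hcomm⟩ := hσ
  obtain ⟨Q, _, π, ι, y₀, hπ, hι, hcomp, hy₀, hxy₀⟩ :=
    Stem.exists_involution_lifts (k := 5) hsurj hker x_mul_self
  let y : ℕ → Q := fun g => if g < 5 then y₀ g else 1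
  have hy : ∀ g, y g * y g = 1 := fun g => by
    dsimp only [y]; split
    · exact hy₀ g
    · exact one_mul 1
  have hxy : ∀ g, π (y g) = x g := fun g => by
    dsimp only [y]; split
    · next h => exact hxy₀ g h
    · next h =>
      rw [map_one]
      refine Subtype.ext ?_
      have h0 : sameB Mcl.cert.b Mcl.cert.N [tabOf g] [] = true := by
        rw [show tabOf g = tabOf 5 by
          unfold tabOf
          rw [List.getD_eq_default _ _ ((show invTabs.length ≤ 5 by decide).trans (Nat.not_lt.1 h)),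
            List.getD_eq_default _ _ (show invTabs.length ≤ 5 by decide)]]
        decide +kernel
      have e := eq_of_sameB (l := [tabOf g]) (by simpa using (tab_facts g).1) (fun T hT => by simp at hT) h0
      rw [List.map_singleton, List.prod_singleton] at e
      exact e.symm
  obtain ⟨w, hw, hle⟩ := exists_kernel_gen hπ hy hxy
  refine exists_surjective_of_zpowers σ.ker ι hι hw (by norm_num) fun e he => hle ⟨?_, ?_⟩
  · show π (ι e) = 1
    rw [← MonoidHom.comp_apply, hcomp]
    exact he
  · have : (commutator Γ).map ι ≤ commutator Q := by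
      rw [commutator_def, Subgroup.map_commutator, commutator_def]
      exact Subgroup.commutator_mono le_top le_top
    exact this ⟨e, hcomm he, rfl⟩

/-- The Schur multiplier of the McLaughlin group is cyclic of order three. -/
theorem multiplier : Cfsg.HasCyclicSchurMultiplier ↥Cfsg.Spor.McL 3 := by
  obtain ⟨e⟩ := Mcl.mcl_model.1
  have := simple_grp
  have : Finite grp := Nat.finite_of_card_ne_zero (by rw [card_grp]; norm_num)
  refine ⟨?_, fun Γ _ _ σ hσ => ?_⟩
  · obtain ⟨Γ, _, _, σ, hσ, hk⟩ := Stem.exists_stem_three x MclCover.perm_ok MclCover.coc_ok (by decide)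
      (by decide) (by decide +kernel) (fun M _ y hy hr => exists_hom y hy hr) (j₁ := 26)
      (by decide +kernel) (by decide +kernel) (g₁ := 4) (by decide) (by decide +kernel)
    have hker : (e.symm.toMonoidHom.comp σ).ker = σ.ker := by ext a; simp [MonoidHom.mem_ker]
    exact ⟨Γ, inferInstance, inferInstance, e.symm.toMonoidHom.comp σ,
      ⟨e.symm.surjective.comp hσ.1, hker ▸ hσ.2.1, hker ▸ hσ.2.2⟩,
      hk.map fun f => (MulEquiv.subgroupCongr hker).trans f⟩
  · have hker : (e.toMonoidHom.comp σ).ker = σ.ker := by ext a; simp [MonoidHom.mem_ker]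
    obtain ⟨hs, hc, hd⟩ := hσ
    obtain ⟨p, hp⟩ := stem_ker (e.toMonoidHom.comp σ) ⟨e.surjective.comp hs, hker ▸ hc, hker ▸ hd⟩
    exact ⟨(MulEquiv.subgroupCongr hker).toMonoidHom.comp p, (MulEquiv.subgroupCongr hker).surjective.comp hp⟩

end Cfsg.Lib.MclMult
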