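/-! Five involutions of the McLaughlin group on 275 points. -/

set_option autoImplicit false

namespace Cfsg.Lib.MclMult

/-- The five involutions as packed tables. -/
def invTabs : List Nat :=
  [0x151830d533a6203135428b6e836418362a7694e02032f3d1fa180f918a2be472b4ccfe0b2584e4344b7a06ec0a20a1d082835d28441ba89c228203b8f2dc240f8bad87316022c600b496e7d5c0499a345ab28bea438b51669f2930a22aa423e02662571d452cf689c9969762954d04b1b2edeca91130158a824c3c32c81c389164a621d07a080481102985a3c906e513008ca3a273dcd68c50a21de8a161f10abf4aba932200a871a086171e9ba6f3b9d9749e39ad98e703c074db0746c2cc0b110bd5226406af0186964bfdb20b848e4b2d6268d565128130df2e727a3cae3b582814edb0bbe88ae4781085edf1fb693a3026240b4a371abcaccc1986a183c209ec1c871241172e078a4c462b12aacce807d878dc7e828c94afc23bccfeeb5eb39aa0a078b4c6612e041369c038180a9a80249a600,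
    0x6127108786cf4364f2d846452c2f8fa9f6198c7cee703f120fe69abd96f8473ccec547b00c7a1e2f400d0ec13249a0e835b911ae623b21c2ff3ba59acdc6db69b22e18375aad47d99420e9679a98c537c8b13ae2013358a248187428a8054185a625287c100742429427346128a4957d264703b262a844c05381976570b1356a888242d9278478315c2f4bb79605088ba922fd4dbddcab32895450a043824acb7101c4324b308fe0a4e3dc34d89c6fbd402125a1c9045d149b8da7973b38d2ed10999a464812f0fe0013bbce00e1905cb3075221514f4662c51694249f144ab402c89e42718c6103c2192082403f405e244560e86ead1cc306a0d0896c8cd74c3617aca150acde892fbac34c484aa4ce835d3c1841c8709503122d28c08c1059d066d107970689a09afd0cb95c2980a157931cea60,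
    0x449bc75478ce1a746399c3488632a12ece769c930716926826766d00954515f12818b442bac80b61ba920670792ece68a0a0706ce4719a83086404440adc0fbed70bd3f359aaad69bfcd05467c102c53659a4ee9f85c1c90c108179888e05bddb0a5752e864d9173c142f41f15844b04f24da85b3dbe453065393978ee2c00d6a6c642bc969c4dbf92d0182a64da3157189220a87b00242f45ba1130843b81e62d1f95ca0df3fb5cfa5a559048a3a64bf2210c74c0a00ec290a12aa01238994d185184126031a48cc6427b08ba25561f0b2a3412c8aad0661bdf0812fa984c4c4ebd888c507864f2491a108f4f141acc7a27041e03a3877b946a43872e52820462dd082c150ad526e1e134b86b072c43c306d88472e6024248ce10333422e77ea342ac32388c1af55fa40ca3b0385dba1b513e80200,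
    0x2f501105e0ea030c1fa0c349a523409af976bda1aa13d839fa523811a081b0ec094cae06b554a6c5416e06607582cb08d73a286ae409b71c2aa5c8c9bae2161910ed812a41e461462c8e70665218761908b3c2c4333ab18a4a4e840e4934215e250f16ae9beb85b8812c8e213482e2e3b3d124c62b38018ef3a3d5e3073428a00301e1bd869c02c20e298372d52a22602b406d6202d1d0d332b9912236cb390abf850e44311369f0fa7e7f9e83c49042bc0ea768b0532fb4f25cfef0021a8d2a36398916da2f999a8ec3192c905a7717028e95f2acaa37013f04845278a60a4c2f310f05d1c3e8a033642cc008f858f8309f66c3904472a0d9ca27223780ca017ac176db150ac9c261a0a1ae514425102b60f9e5ee127c425983d58b242a597187196c207bf9e6a97502812773a8c5366b4894c0241,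
    0x16127107d3f2150c5ac35109a0591cd8f976ab9068b7f839fb0e06c3e085a0ebd0ccf6383c97c4d2593a06603d2917ab473b7d844f1eb1dc2aa73311ba674eac1acd818365aaa938a79a238518ad56c84d9a192cc712fc3ede16394e480633c5d246492e9147d4289a16e8319bd62da57c085a8466b81a85e53988aeea67804ca2547b49b65565c21182f020fd2a9488aec06874fa351c99802e47d09480a96eac808d102c02289170513dbac0e08249d83c7439b05a6f3591aca10537024d2ca6e3d5422e59a9818ec212a0a81b14be0b312528ed385d010e8f86d723b9e00a778c8ee37832f0fe440c97c823c4b225c6402b1484ed02403c2082199280cd74c1915ac367218b6201cad9407e0d0884228629d5ee122e08c86130b8582a140c0700a351b3f9f66183930d4783c8c422974894d4400]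

/-- Their paths through the levels. -/
def invPaths : List (List Nat) :=
  [[147, 81, 19, 8, 2],
    [235, 102, 11, 39, 2],
    [77, 34, 21, 36, 1],
    [40, 78, 33, 57, 1],
    [182, 73, 66, 11, 1]]

/-- The three generators as words in the five involutions. -/
def backWords : List (List Nat) :=
  [[4, 2, 3, 0, 1, 0, 3, 4, 2, 1, 4, 3, 2, 1, 0, 2, 3, 2],
    [0, 2, 1, 4, 2, 3, 1, 2, 4, 3, 2, 1, 4, 3, 0, 1, 2, 0],
    [3, 4, 2, 3, 1, 4, 1, 2, 4, 1, 3, 0, 2, 4, 0, 3, 0]]

end Cfsg.Lib.MclMult
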