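import Cfsg.Agent.Lib.MclMult.Data
import Cfsg.Agent.Lib.PermAut.Mcl
import Cfsg.Agent.Lib.PermAut.Sub
import Cfsg.Agent.Lib.CosetEnum.Simple
import Cfsg.Agent.Lib.CosetEnum.WordPres
import Cfsg.Agent.Lib.CosetEnum.Order
import Cfsg.Agent.Lib.CosetEnum.MclStemC.Data
import Cfsg.Agent.Lib.CosetEnum.MclStemG.Data
import Cfsg.Agent.Lib.CosetEnum.MclStepL.Valid
import Cfsg.Agent.Lib.CosetEnum.MclStepC.Valid
import Cfsg.Agent.Lib.CosetEnum.MclStepG.Valid

/-!
# A presentation of the McLaughlin group on five involutions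
-/

set_option autoImplicit false
set_option maxRecDepth 100000

namespace Cfsg.Lib.MclMult

open Cfsg.Lib.CosetEnum Cfsg.Lib.PermAut

/-- The group on 275 points. -/
noncomputable abbrev grp : Subgroup (Equiv.Perm (Fin Mcl.cert.N)) := Mcl.cert.K

theorem card_grp : Nat.card grp = 898128000 := by
  rw [Mcl.mcl_model.2]; decide +kernel

/-- The table of an involution. -/
def tabOf (g : ℕ) : ℕ := invTabs.getD g (Mcl.cert.E.getD 0 0)

theorem inv_ok : ((List.range 6).all fun g =>
    invPairOk Mcl.cert.b Mcl.cert.N (tabOf g) (tabOf g) &&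
      (Nat.ble 5 g || (pathOk Mcl.cert.tr (invPaths.getD g []) &&
        sameB Mcl.cert.b Mcl.cert.N [tabOf g] (pickPath Mcl.cert.tr (invPaths.getD g []))))) = true := by
  decide +kernel

theorem tab_facts (g : ℕ) : Rep Mcl.cert.b (Mcl.cert.P (tabOf g)) (tabOf g) ∧
    Mcl.cert.P (tabOf g) * Mcl.cert.P (tabOf g) = 1 ∧ Mcl.cert.P (tabOf g) ∈ Mcl.cert.K := by
  have G := Cert.gen_of_check Mcl.gen_check
  have h := List.all_eq_true.1 inv_ok (min g 5) (List.mem_range.2 (by omega))
  simp only [Bool.and_eq_true, Bool.or_eq_true, Nat.ble_eq] at h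
  rcases Nat.lt_or_ge g 5 with hg | hg
  · rw [min_eq_left hg.le] at h
    obtain ⟨r1, -, r3⟩ := rep_of_invPairOk (N := Mcl.cert.N) h.1
    obtain ⟨hp, hs⟩ := h.2.resolve_left (by omega)
    refine ⟨r1, mul_eq_one_iff_eq_inv.2 r3, ?_⟩
    have hgood : ∀ T ∈ pickPath Mcl.cert.tr (invPaths.getD g []),
        Rep Mcl.cert.b (Mcl.cert.P T) T ∧ Mcl.cert.P T ∈ Mcl.cert.K := fun T hT => by
      obtain ⟨l, hl, hT'⟩ := mem_of_forall₂ (forall₂_pick hp) T hT
      exact G.rep l hl T hT'
    have e := eq_of_sameB (l := [tabOf g]) (by simpa using r1) (fun T hT => (hgood T hT).1) hs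
    rw [List.map_singleton, List.prod_singleton] at e
    show toP Mcl.cert.b Mcl.cert.N (tabOf g) ∈ _
    rw [e]
    exact Subgroup.list_prod_mem _ fun y hy => by
      obtain ⟨T, hT, rfl⟩ := List.mem_map.1 hy
      exact (hgood T hT).2
  · rw [min_eq_right hg] at h
    have e : tabOf g = tabOf 5 := by
      unfold tabOf
      rw [List.getD_eq_default _ _ ((show invTabs.length ≤ 5 by decide).trans hg),
        List.getD_eq_default _ _ (show invTabs.length ≤ 5 by decide)]
    rw [← e] at h
    obtain ⟨r1, -, -⟩ := rep_of_invPairOk (N := Mcl.cert.N) h.1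
    have h0 : sameB Mcl.cert.b Mcl.cert.N [tabOf g] [] = true := by rw [e]; decide +kernel
    have hid := eq_of_sameB (l := [tabOf g]) (by simpa using r1) (fun T hT => by simp at hT) h0
    rw [List.map_singleton, List.prod_singleton] at hid
    have hid : Mcl.cert.P (tabOf g) = 1 := hid
    exact ⟨r1, by rw [hid, one_mul], hid ▸ one_mem _⟩

/-- The involutions. -/
noncomputable def x (g : ℕ) : grp := ⟨Mcl.cert.P (tabOf g), (tab_facts g).2.2⟩

theorem x_mul_self (g : ℕ) : x g * x g = 1 := Subtype.ext (tab_facts g).2.1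

theorem wordVal_coe : ∀ {w : List ℕ}, (∀ g ∈ w, g ≠ eps) →
    ((wordVal x w : grp) : Equiv.Perm (Fin Mcl.cert.N)) = ((w.reverse.map tabOf).map Mcl.cert.P).prod
  | [], _ => rfl
  | g :: w, h => by
    rw [wordVal, Subgroup.coe_mul, wordVal_coe fun a ha => h a (by simp [ha]), gen, if_neg (h g (by simp))]
    simp [List.reverse_cons, x]

theorem rels_ok : (MclStemG.canon.all fun r =>
    sameB Mcl.cert.b Mcl.cert.N (r.reverse.map tabOf) []) = true := by
  decide +kernel

theorem canon_lt : ∀ r ∈ MclStemG.canon, ∀ g ∈ r, g < 5 := by decide +kernel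

theorem wordVal_x : ∀ r ∈ MclStemG.canon, wordVal x r = 1 := fun r hr => by
  refine Subtype.ext ?_
  rw [wordVal_coe fun g hg => by have := canon_lt r hr g hg; unfold eps; omega,
    eq_of_sameB (fun T hT => by obtain ⟨g, -, rfl⟩ := List.mem_map.1 hT; exact (tab_facts g).1)
      (fun T hT => by simp at hT) (List.all_eq_true.1 rels_ok r hr)]
  rfl

theorem back_ok : (backWords.all fun w => w.all fun g => Nat.blt g 5) = true ∧
    sameB Mcl.cert.b Mcl.cert.N [Mcl.cert.a] ((backWords.getD 0 []).map tabOf) = true ∧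
    sameB Mcl.cert.b Mcl.cert.N [Mcl.cert.c] ((backWords.getD 1 []).map tabOf) = true ∧
    sameB Mcl.cert.b Mcl.cert.N [Mcl.cert.d] ((backWords.getD 2 []).map tabOf) = true := by
  refine ⟨by decide +kernel, by decide +kernel, by decide +kernel, by decide +kernel⟩

theorem closure_x : Subgroup.closure (x '' {g | g < 5}) = ⊤ := by
  have G := Cert.gen_of_check Mcl.gen_check
  obtain ⟨hlt, ha, hc, hd⟩ := back_ok
  have hlt' : ∀ i, ∀ a ∈ backWords.getD i [], a < 5 := by
    intro i a ha
    rcases Nat.lt_or_ge i backWords.length with hi | hi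
    · rw [List.getD_eq_getElem _ _ hi] at ha
      simpa [Nat.blt_eq] using List.all_eq_true.1 (List.all_eq_true.1 hlt _ (List.getElem_mem hi)) a ha
    · rw [List.getD_eq_default _ _ hi] at ha; simp at ha
  have key : ∀ (T i : ℕ), Rep Mcl.cert.b (Mcl.cert.P T) T →
      sameB Mcl.cert.b Mcl.cert.N [T] ((backWords.getD i []).map tabOf) = true →
      Mcl.cert.P T ∈ (Subgroup.closure (x '' {g | g < 5})).map grp.subtype := by
    intro T i hT hs
    have e := eq_of_sameB (l := [T]) (by simpa using hT)
      (fun S hS => by obtain ⟨g, -, rfl⟩ := List.mem_map.1 hS; exact (tab_facts g).1) hs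
    rw [List.map_singleton, List.prod_singleton] at e
    refine ⟨wordVal x (backWords.getD i []).reverse, ?_, ?_⟩
    · have := wordVal_mem x (S := List.range 5) (u := (backWords.getD i []).reverse)
        (fun a ha => ⟨List.mem_range.2 (hlt' i a (List.mem_reverse.1 ha)), by
          have := hlt' i a (List.mem_reverse.1 ha); unfold eps; omega⟩)
      simpa only [List.mem_range, SetLike.mem_coe] using this
    · show ((wordVal x (backWords.getD i []).reverse : grp) : Equiv.Perm (Fin Mcl.cert.N)) = _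
      rw [wordVal_coe (fun a ha => by have := hlt' i a (List.mem_reverse.1 ha); unfold eps; omega),
        List.reverse_reverse]
      exact e.symm
  refine Subgroup.map_injective grp.subtype_injective ?_
  rw [← MonoidHom.range_eq_map, Subgroup.range_subtype]
  refine le_antisymm (Subgroup.map_subtype_le _) ?_
  show Mcl.cert.K ≤ _
  rw [Cert.K, Subgroup.closure_le]
  rintro y (rfl | rfl | rfl)
  · exact key _ 0 G.a ha
  · exact key _ 1 G.c hc
  · exact key _ 2 G.d hd

/-- The subgroup on four letters. -/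
theorem card_four {M : Type*} [Group M] {y : ℕ → M} (hy : ∀ g, y g * y g = 1)
    (hrel : ∀ r ∈ MclStemC.canon, wordVal y r = 1) :
    Finite (Subgroup.closure (y '' {g | g ∈ MclStepC.step.S})) ∧
      Nat.card (Subgroup.closure (y '' {g | g ∈ MclStepC.step.S})) ≤ 40320 := by
  have vL : MclStepL.step.Valid MclStemC.canon := MclStepL.step_valid (by decide +kernel)
  have vC : MclStepC.step.Valid MclStemC.canon := MclStepC.step_valid (by decide +kernel)
  have hcyc : Finite (Subgroup.closure ({y 0} : Set M)) ∧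
      Nat.card (Subgroup.closure ({y 0} : Set M)) ≤ 2 := by
    have h2 : y 0 ^ 2 = 1 := by rw [pow_two, hy]
    have hfin : IsOfFinOrder (y 0) := isOfFinOrder_iff_pow_eq_one.2 ⟨2, by norm_num, h2⟩
    rw [← Subgroup.zpowers_eq_closure]
    have hc : Nat.card (Subgroup.zpowers (y 0)) = orderOf (y 0) := Nat.card_zpowers _
    exact ⟨Nat.finite_of_card_ne_zero (by rw [hc]; exact hfin.orderOf_pos.ne'),
      hc ▸ orderOf_le_of_pow_eq_one (by norm_num) h2⟩
  obtain ⟨l1, l2⟩ := vL.card_le hy hrel (K := Subgroup.closure ({y 0} : Set M)) (by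
    intro u hu
    rw [show MclStepL.step.U = [[0]] from rfl, List.mem_singleton] at hu
    rw [hu]
    exact Subgroup.subset_closure (by simp [wordVal, gen, eps])) hcyc.1 hcyc.2
  obtain ⟨h1, h2⟩ := vC.card_le hy hrel (inLetters_mem y (S := MclStepL.step.S) (by decide +kernel)) l1 l2
  exact ⟨h1, h2.trans (by decide +kernel)⟩

/-- All five letters. -/
theorem card_five {M : Type*} [Group M] {y : ℕ → M} (hy : ∀ g, y g * y g = 1)
    (hrel : ∀ r ∈ MclStemG.canon, wordVal y r = 1) :
    Finite (Subgroup.closure (y '' {g | g ∈ MclStepG.step.S})) ∧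
      Nat.card (Subgroup.closure (y '' {g | g ∈ MclStepG.step.S})) ≤ 898128000 := by
  have v : MclStepG.step.Valid MclStemG.canon := MclStepG.step_valid (by decide +kernel)
  have hsub : ∀ r ∈ MclStemC.canon, r ∈ MclStemG.canon := by decide +kernel
  obtain ⟨c1, c2⟩ := card_four hy fun r hr => hrel r (hsub r hr)
  obtain ⟨h1, h2⟩ := v.card_le hy hrel (inLetters_mem y (S := MclStepC.step.S) (by decide +kernel)) c1 c2
  exact ⟨h1, h2.trans (by decide +kernel)⟩

/-- Involutions satisfying the relators give a homomorphism of the group. -/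
theorem exists_hom {M : Type*} [Group M] (y : ℕ → M) (hy : ∀ g, y g * y g = 1)
    (h : ∀ r ∈ MclStemG.canon, wordVal y r = 1) : ∃ s : grp →* M, ∀ g < 5, s (x g) = y g := by
  have hlt : (MclStemG.canon.all fun r => r.all fun g => Nat.blt g 5) = true := by decide +kernel
  obtain ⟨φ, hφ⟩ := WordPres.exists_hom (by decide) hlt x wordVal_x
  obtain ⟨ψ, hψ⟩ := WordPres.exists_hom (by decide) hlt y h
  have hs : (fun g => g < 5) = fun g => g ∈ MclStepG.step.S := funext fun g => by
    rw [show MclStepG.step.S = List.range 5 by decide +kernel, List.mem_range]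
  have hP := card_five (WordPres.gens_mul_self (by decide) (by decide +kernel))
    (WordPres.wordVal_gens (k := 5) (R := MclStemG.canon))
  rw [show {g | g ∈ MclStepG.step.S} = {g | g < 5} from congrArg setOf hs.symm, WordPres.closure_gens] at hP
  have hfin : Finite (WordPres.Grp 5 MclStemG.canon) := by
    have := hP.1
    exact Finite.of_equiv _ Subgroup.topEquiv.toEquiv
  have hcard : Nat.card (WordPres.Grp 5 MclStemG.canon) ≤ Nat.card grp := by
    rw [card_grp, ← Subgroup.card_top]
    exact hP.2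
  have hsurj : Function.Surjective φ := by
    rw [← MonoidHom.range_eq_top, eq_top_iff, ← closure_x, Subgroup.closure_le]
    rintro _ ⟨g, hg, rfl⟩
    exact ⟨_, hφ g hg⟩
  let e := MulEquiv.ofBijective φ (hsurj.bijective_of_nat_card_le hcard)
  refine ⟨ψ.comp e.symm.toMonoidHom, fun g hg => ?_⟩
  show ψ (e.symm (x g)) = _
  rw [← hφ g hg, show φ (WordPres.gens 5 MclStemG.canon g) = e (WordPres.gens 5 MclStemG.canon g) from rfl,
    e.symm_apply_apply, hψ g hg]

end Cfsg.Lib.MclMult
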